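import Groth.Agent.AmpleDesc.Limit
import Groth.Agent.S2332
import Groth.Agent.Props.AmpleRel
import Groth.Agent.HTopLib.Cover
import Groth.Agent.ConsPairLib.QuasiAffine

/-!
Relative ampleness descends along cofiltered limits with affine transition maps.
-/

set_option autoImplicit false
set_option linter.style.haveILetI false
set_option backward.isDefEq.respectTransparency.types false

universe u

open CategoryTheory CategoryTheory.Limits AlgebraicGeometry TopologicalSpace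

noncomputable section

namespace Groth.Agent.AmpleDesc

open Groth.Agent.AmpleLib

theorem isAmple_pullback_comp_iso {A B C : Scheme.{u}} (p : A ⟶ B) (q : B ⟶ C) {r : A ⟶ C} (e : p ≫ q = r)
    {L : C.Modules} (h : CohB1.IsAmple ((Scheme.Modules.pullback p).obj ((Scheme.Modules.pullback q).obj L))) :
    CohB1.IsAmple ((Scheme.Modules.pullback r).obj L) :=
  isAmple_of_iso ((Scheme.Modules.pullbackComp p q).app L ≪≫ (Scheme.Modules.pullbackCongr e).app L) h

/-- Relative ampleness is stable under base change. -/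
theorem isRelAmple_of_isPullback {X₀ Y₀ X Y : Scheme.{u}} {f₀ : X₀ ⟶ Y₀} {f : X ⟶ Y} {qX : X ⟶ X₀} {qY : Y ⟶ Y₀}
    (hX : IsPullback qX f f₀ qY) {L : X₀.Modules} (h : RelAmple.IsRelAmple f₀ L) :
    RelAmple.IsRelAmple f ((Scheme.Modules.pullback qX).obj L) := by
  have := h.1
  have hb := Groth.Agent.S2332.result f₀ qY L h
  have hqc : QuasiCompact f := MorphismProperty.of_isPullback hX ‹_›
  have hL := isInvertible_of_isRelAmple h
  refine isRelAmple_iff.mpr ⟨hqc, PicCl.isInvertible_pullback qX hL, fun V => ?_⟩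
  let φ := hX.isoPullback.hom
  have hφ1 : φ ≫ pullback.fst f₀ qY = qX := hX.isoPullback_hom_fst
  have hφ2 : φ ≫ pullback.snd f₀ qY = f := hX.isoPullback_hom_snd
  have h1 := (isRelAmple_iff.mp hb).2.2 V
  have h2 := ampleOn_pullback_of_isInducing (PicCl.isInvertible_pullback _ hL) φ (O := pullback.snd f₀ qY ⁻¹ᵁ V.1)
    (O' := f ⁻¹ᵁ V.1) (by rw [← hφ2]; exact le_rfl) h1 (f.isCompact_preimage V.2.isCompact) φ.homeomorph.isInducing
  exact ampleOn_of_iso ((Scheme.Modules.pullbackComp φ (pullback.fst f₀ qY)).app L ≪≫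
    (Scheme.Modules.pullbackCongr hφ1).app L) h2

/-- An affine morphism is quasi-affine. -/
theorem qaMor_of_isAffineHom {A B : Scheme.{u}} (f : A ⟶ B) [IsAffineHom f] : ConsPairLib.qaMor f :=
  ⟨inferInstance, fun V hV => isQuasiAffine_of_isAffineOpen (hV.preimage f)⟩

variable {I : Type u} [SmallCategory I] [IsCofiltered I] {D : I ⥤ Scheme.{u}} {c : Cone D}
  (hc : IsLimit c) [∀ (i j : I) (f : i ⟶ j), IsAffineHom (D.map f)] {i₀ : I}

include hc in
/-- Relative ampleness on the limit comes from a stage. -/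
theorem exists_isRelAmple_stage {X₀ Y₀ : Scheme.{u}} (f₀ : X₀ ⟶ Y₀) [QuasiCompact f₀] [QuasiSeparated f₀]
    (g₀ : Y₀ ⟶ D.obj i₀) [CompactSpace Y₀]
    {L₀ : X₀.Modules} (hL : PicF.IsInvertible L₀)
    {X Y : Scheme.{u}} {f : X ⟶ Y} {g : Y ⟶ c.pt} {qY : Y ⟶ Y₀} {qX : X ⟶ X₀}
    (hY : IsPullback qY g g₀ (c.π.app i₀)) (hX : IsPullback qX f f₀ qY)
    (h : RelAmple.IsRelAmple f ((Scheme.Modules.pullback qX).obj L₀)) :
    ∃ j : Over i₀, RelAmple.IsRelAmple
      (pullback.lift (pullback.fst (f₀ ≫ g₀) (D.map j.hom) ≫ f₀) (pullback.snd (f₀ ≫ g₀) (D.map j.hom))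
        (by rw [Category.assoc, pullback.condition]) : pullback (f₀ ≫ g₀) (D.map j.hom) ⟶ pullback g₀ (D.map j.hom))
      ((Scheme.Modules.pullback (pullback.fst (f₀ ≫ g₀) (D.map j.hom))).obj L₀) := by
  classical
  haveI : IsAffineHom (c.π.app i₀) := (isAffineHom_π_app D c hc i₀)
  haveI : IsAffineHom qY := MorphismProperty.of_isPullback hY.flip ‹_›
  obtain ⟨n, V, hV, hcov⟩ := HTopLib.exists_affine_cover Y₀
  have hfin : ∀ a : Fin n, ∃ J : Over i₀, ∀ (l : Over i₀), (l ⟶ J) → CohB1.IsAmple ((Scheme.Modules.pullback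
      (pullback.fst ((f₀ ⁻¹ᵁ V a).ι ≫ f₀ ≫ g₀) (D.map l.hom) ≫ (f₀ ⁻¹ᵁ V a).ι)).obj L₀) := by
    intro a
    haveI : IsAffine (V a).toScheme := hV a
    let Z := f₀ ⁻¹ᵁ V a
    let gV : Z.toScheme ⟶ D.obj i₀ := Z.ι ≫ f₀ ≫ g₀
    haveI : CompactSpace ↑Z.toScheme := QuasiCompact.compactSpace_of_compactSpace (f₀ ∣_ V a)
    haveI : QuasiSeparatedSpace ↑Z.toScheme := quasiSeparatedSpace_of_quasiSeparated (f₀ ∣_ V a)
    have hXV : IsPullback (qX ∣_ Z) ((qX ⁻¹ᵁ Z).ι ≫ f ≫ g) gV (c.π.app i₀) :=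
      (isPullback_morphismRestrict qX Z).paste_vert (hX.paste_vert hY)
    haveI : ∀ j : Over i₀, CompactSpace ((LimLib.bcDiag D i₀ gV).obj j) := fun j => inferInstance
    haveI : ∀ j : Over i₀, QuasiSeparatedSpace ((LimLib.bcDiag D i₀ gV).obj j) := fun j =>
      quasiSeparatedSpace_of_quasiSeparated (pullback.fst gV (D.map j.hom))
    let i₁ : Over i₀ := Over.mk (𝟙 i₀)
    let r : (LimLib.bcDiag D i₀ gV).obj i₁ ⟶ X₀ := pullback.fst gV (D.map i₁.hom) ≫ Z.ι
    let u₀ := (LimLib.bcCone hXV).π.app i₁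
    have hu : u₀ ≫ r = (qX ⁻¹ᵁ Z).ι ≫ qX := by
      refine (Category.assoc _ _ _).symm.trans ?_
      refine (congrArg (· ≫ Z.ι) (show u₀ ≫ pullback.fst gV (D.map i₁.hom) = qX ∣_ Z from pullback.lift_fst _ _ _)).trans ?_
      exact morphismRestrict_ι qX Z
    have h1 : CohB1.IsAmple ((Scheme.Modules.pullback u₀).obj ((Scheme.Modules.pullback r).obj L₀)) := by
      have h0 : CohB1.IsAmple (((Scheme.Modules.pullback qX).obj L₀).restrict (qX ⁻¹ᵁ Z).ι) := by
        have e : qX ⁻¹ᵁ Z = f ⁻¹ᵁ (qY ⁻¹ᵁ V a) := by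
          simp only [Z, ← Scheme.Hom.comp_preimage, hX.w]
        rw [e]
        exact h.2 ⟨qY ⁻¹ᵁ V a, (hV a).preimage qY⟩
      refine isAmple_of_iso ?_ h0
      exact (Scheme.Modules.restrictFunctorIsoPullback (qX ⁻¹ᵁ Z).ι).app _ ≪≫
        (Scheme.Modules.pullbackComp (qX ⁻¹ᵁ Z).ι qX).app L₀ ≪≫ (Scheme.Modules.pullbackCongr hu.symm).app L₀ ≪≫
          ((Scheme.Modules.pullbackComp u₀ r).app L₀).symm
    obtain ⟨j, hj⟩ := exists_isAmple_descend (LimLib.isLimitBcCone hc hXV) (i₀ := i₁)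
      (PicCl.isInvertible_pullback r hL) h1
    refine ⟨j.left, fun l ψ => ?_⟩
    have h2 := isAmple_pullback_of_qaMor ((LimLib.bcDiag D i₀ gV).map ψ) ((qaMor_of_isAffineHom _)) hj
    refine isAmple_pullback_comp_iso _ _ ?_ (isAmple_of_iso
      ((Scheme.Modules.pullback ((LimLib.bcDiag D i₀ gV).map ψ)).mapIso
        ((Scheme.Modules.pullbackComp ((LimLib.bcDiag D i₀ gV).map j.hom) r).app L₀)) h2)
    show (LimLib.bcDiag D i₀ gV).map ψ ≫ (LimLib.bcDiag D i₀ gV).map j.hom ≫ r = _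
    simp [LimLib.bcDiag, r, i₁, pullback.lift_fst_assoc]
    rfl
  choose J hJ using hfin
  obtain ⟨l, hl⟩ := IsCofiltered.inf_objs_exists (insert (Over.mk (𝟙 i₀)) (Finset.univ.image J))
  refine ⟨l, ?_⟩
  let pX := pullback.fst (f₀ ≫ g₀) (D.map l.hom)
  let pY := pullback.fst g₀ (D.map l.hom)
  let fl : pullback (f₀ ≫ g₀) (D.map l.hom) ⟶ pullback g₀ (D.map l.hom) :=
    pullback.lift (pX ≫ f₀) (pullback.snd (f₀ ≫ g₀) (D.map l.hom)) (by rw [Category.assoc, pullback.condition])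
  have hfl : fl ≫ pY = pX ≫ f₀ := pullback.lift_fst _ _ _
  have hsq : IsPullback pX fl f₀ pY := by
    refine IsPullback.of_bot ?_ hfl.symm (IsPullback.of_hasPullback g₀ (D.map l.hom))
    rw [show fl ≫ pullback.snd g₀ (D.map l.hom) = pullback.snd (f₀ ≫ g₀) (D.map l.hom) from pullback.lift_snd _ _ _]
    exact IsPullback.of_hasPullback _ _
  haveI : QuasiCompact fl := MorphismProperty.of_isPullback hsq ‹_›
  have hLl := PicCl.isInvertible_pullback pX hL
  refine AmpleLib.isRelAmple_of_cover fl (fun a : Fin n => pY ⁻¹ᵁ V a)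
    (fun y _ => by obtain ⟨a, ha⟩ := hcov (pY y); exact Opens.mem_iSup.mpr ⟨a, ha⟩) hLl fun a => ?_
  haveI : IsAffine (V a).toScheme := hV a
  let Z := f₀ ⁻¹ᵁ V a
  let O := pX ⁻¹ᵁ Z
  have hO : fl ⁻¹ᵁ (pY ⁻¹ᵁ V a) = O := by
    simp only [O, Z, ← Scheme.Hom.comp_preimage, hfl]
  have hOsq : IsPullback (pX ∣_ Z) (O.ι ≫ pullback.snd (f₀ ≫ g₀) (D.map l.hom)) (Z.ι ≫ f₀ ≫ g₀) (D.map l.hom) :=
    (isPullback_morphismRestrict pX Z).paste_vert (IsPullback.of_hasPullback (f₀ ≫ g₀) (D.map l.hom))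
  let φ := hOsq.isoPullback.hom
  have hA := hJ a l (hl (show J a ∈ _ by simp)).some
  haveI : CompactSpace ↑O.toScheme := by
    haveI := hA.2.1
    exact φ.homeomorph.symm.compactSpace
  have h3 := isAmple_pullback_of_isInducing φ φ.homeomorph.isInducing hA
  rw [hO, ← isAmple_restrict_iff hLl]
  refine isAmple_of_iso ?_ (isAmple_pullback_comp_iso φ _ (r := O.ι ≫ pX) ?_ h3)
  · exact ((Scheme.Modules.pullbackComp O.ι pX).app L₀).symm ≪≫
      ((Scheme.Modules.restrictFunctorIsoPullback O.ι).app _).symm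
  · rw [← Category.assoc, hOsq.isoPullback_hom_fst, morphismRestrict_ι]

end Groth.Agent.AmpleDesc

end
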