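import Groth.Agent.AmpleDesc.Fpqc
import Groth.Agent.AmpleDesc.RelLimit
import Groth.Agent.FibreIndCons.QProj
import Groth.Agent.ConsPairLib.Loci
import Groth.Agent.ConsPropLib.Examples
import Groth.Agent.LimLib.Model
import Groth.Agent.LimLib.Proper
import Groth.Agent.S0054

/-!
The locus of points over which an invertible module on a proper finitely presented scheme is ample on the
fibre.
-/

set_option autoImplicit false
set_option linter.style.haveILetI false
set_option backward.isDefEq.respectTransparency.types false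

universe u

open CategoryTheory CategoryTheory.Limits AlgebraicGeometry Topology TopologicalSpace

noncomputable section

namespace Groth.Agent.AmpleDesc

open FibreIndCons (isRelAmple_iso exists_invertible_model)

variable {X Y : Scheme.{u}}

/-- The module is relatively ample on the fibre over `y`. -/
def AmpAt (f : X ⟶ Y) (L : X.Modules) (y : Y) : Prop :=
  RelAmple.IsRelAmple (pullback.snd f (Y.fromSpecResidueField y))
    ((Scheme.Modules.pullback (pullback.fst f (Y.fromSpecResidueField y))).obj L)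

theorem ampAt_iso {f : X ⟶ Y} {L M : X.Modules} (e : L ≅ M) {y : Y} (h : AmpAt f L y) : AmpAt f M y :=
  isRelAmple_iso ((Scheme.Modules.pullback _).mapIso e) h

theorem ampAt_iff_isAmple {f' : X ⟶ Y} [IsProper f'] {L : X.Modules} (y : Y) :
    AmpAt f' L y ↔ CohB1.IsAmple ((Scheme.Modules.pullback (f'.fiberι y)).obj L) := by
  haveI : QuasiCompact (pullback.snd f' (Y.fromSpecResidueField y)) := MorphismProperty.pullback_snd _ _ inferInstance
  exact AmpleLib.isRelAmple_iff_isAmple (pullback.snd f' (Y.fromSpecResidueField y))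

theorem ampAt_of_isRelAmple {f : X ⟶ Y} {L : X.Modules} (h : RelAmple.IsRelAmple f L) (y : Y) : AmpAt f L y :=
  isRelAmple_of_isPullback (IsPullback.of_hasPullback f (Y.fromSpecResidueField y)) h

/-- Ampleness on the fibre does not depend on the base change. -/
theorem ampAt_preimage {X' Y' : Scheme.{u}} {f : X ⟶ Y} {f' : X' ⟶ Y'} {qX : X' ⟶ X} {q : Y' ⟶ Y}
    (h : IsPullback qX f' f q) {L : X.Modules} (hL : PicF.IsInvertible L) (y' : Y') :
    AmpAt f' ((Scheme.Modules.pullback qX).obj L) y' ↔ AmpAt f L (q y') := by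
  let p' := Y'.fromSpecResidueField y'
  let p := Y.fromSpecResidueField (q y')
  let κ := Spec.map (q.residueFieldMap y')
  have hκ : κ ≫ p = p' ≫ q := q.SpecMap_residueFieldMap_fromSpecResidueField y'
  let r : pullback f' p' ⟶ pullback f p :=
    pullback.lift (pullback.fst f' p' ≫ qX) (pullback.snd f' p' ≫ κ)
      (by rw [Category.assoc, Category.assoc, h.w, hκ, pullback.condition_assoc])
  have hr1 : r ≫ pullback.fst f p = pullback.fst f' p' ≫ qX := pullback.lift_fst _ _ _
  have hr : IsPullback r (pullback.snd f' p') (pullback.snd f p) κ := by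
    refine IsPullback.of_right ?_ (pullback.lift_snd _ _ _) (IsPullback.of_hasPullback f p)
    rw [hr1, hκ]
    exact (IsPullback.of_hasPullback f' p').paste_horiz h
  let e := (Scheme.Modules.pullbackComp r (pullback.fst f p)).app L ≪≫
    (Scheme.Modules.pullbackCongr hr1).app L ≪≫ ((Scheme.Modules.pullbackComp (pullback.fst f' p') qX).app L).symm
  constructor
  · intro h'
    obtain ⟨⟨hs, hfl⟩, hqc⟩ := ConsPropLib.fpqc_of_points κ
    haveI : Surjective κ := hs
    haveI : Flat κ := hfl
    haveI : QuasiCompact κ := hqc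
    refine isRelAmple_descend (pullback.snd f p) (PicCl.isInvertible_pullback _ hL) κ ?_
    let φ := hr.isoPullback
    have hφ : IsPullback φ.inv (pullback.snd (pullback.snd f p) κ) (pullback.snd f' p') (𝟙 _) :=
      IsPullback.of_horiz_isIso ⟨by rw [Category.comp_id]; exact hr.isoPullback_inv_snd⟩
    have h2 := isRelAmple_of_isPullback hφ h'
    exact isRelAmple_iso ((Scheme.Modules.pullback φ.inv).mapIso e.symm ≪≫
      (Scheme.Modules.pullbackComp _ _).app _ ≪≫
      (Scheme.Modules.pullbackCongr hr.isoPullback_inv_fst).app _) h2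
  · intro h'
    exact isRelAmple_iso e (isRelAmple_of_isPullback hr h')

theorem ampAt_restrict {f : X ⟶ Y} {L : X.Modules} (hL : PicF.IsInvertible L) (W : Y.Opens) (w : W.toScheme) :
    AmpAt (f ∣_ W) (L.restrict (f ⁻¹ᵁ W).ι) w ↔ AmpAt f L w.1 := by
  refine Iff.trans ?_ (ampAt_preimage (isPullback_morphismRestrict f W).flip hL w)
  exact ⟨ampAt_iso ((Scheme.Modules.restrictFunctorIsoPullback (f ⁻¹ᵁ W).ι).app L),
    ampAt_iso ((Scheme.Modules.restrictFunctorIsoPullback (f ⁻¹ᵁ W).ι).app L).symm⟩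

/-- Over a Noetherian base the locus is open. -/
theorem isOpen_ampAt_of_isNoetherian (f : X ⟶ Y) [IsProper f] [IsNoetherian Y] {L : X.Modules}
    (hL : PicF.IsInvertible L) : IsOpen {y : Y | AmpAt f L y} := by
  refine isOpen_iff_forall_mem_open.2 fun y hy => ?_
  obtain ⟨V, hyV, hV⟩ := Groth.Agent.S0054.result f L hL y ((ampAt_iff_isAmple y).1 hy)
  refine ⟨V, fun y' hy' => ?_, V.2, hyV⟩
  obtain ⟨W, hW, hyW, hWV⟩ := exists_isAffineOpen_mem_and_subset (x := y') (U := V) hy'
  haveI : IsAffine W.toScheme := hW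
  exact (ampAt_restrict hL W ⟨y', hyW⟩).1
    (ampAt_of_isRelAmple ((AmpleLib.isRelAmple_iff_isAmple (f ∣_ W)).2 (hV W hWV hW)) _)

/-- Over a Noetherian base fibrewise ampleness is relative ampleness. -/
theorem isRelAmple_of_ampAt_of_isNoetherian (f : X ⟶ Y) [IsProper f] [IsNoetherian Y] {L : X.Modules}
    (hL : PicF.IsInvertible L) (h : ∀ y, AmpAt f L y) : RelAmple.IsRelAmple f L := by
  have h0 := fun y => Groth.Agent.S0054.result f L hL y ((ampAt_iff_isAmple y).1 (h y))
  choose V hyV hV using h0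
  have h1 : ∀ y : Y, ∃ W : Y.Opens, IsAffineOpen W ∧ y ∈ W ∧ W ≤ V y := fun y =>
    exists_isAffineOpen_mem_and_subset (x := y) (U := V y) (hyV y)
  choose W hW hyW hWV using h1
  exact AmpleLib.isRelAmple_of_cover f W (fun y _ => Opens.mem_iSup.mpr ⟨y, hyW y⟩) hL
    fun y => (AmpleLib.isAmple_restrict_iff hL _).mp (hV y _ (hWV y) (hW y))

/-- A proper finitely presented scheme with an invertible module over an affine scheme comes from one over
an affine Noetherian scheme. -/
theorem exists_noetherian_model (f : X ⟶ Y) [IsAffine Y] [IsProper f] [LocallyOfFinitePresentation f]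
    {L : X.Modules} (hL : PicF.IsInvertible L) :
    ∃ (Y₀ X₀ : Scheme.{u}) (f₀ : X₀ ⟶ Y₀) (q : Y ⟶ Y₀) (qX : X ⟶ X₀) (G : X₀.Modules),
      IsAffine Y₀ ∧ IsNoetherian Y₀ ∧ IsProper f₀ ∧ IsPullback qX f f₀ q ∧ PicF.IsInvertible G ∧
        Nonempty ((Scheme.Modules.pullback qX).obj G ≅ L) := by
  obtain ⟨I, _, _, D, c, e, ⟨hc⟩, hDa, hDn⟩ := ConsPairLib.exists_noetherian_limit Γ(Y, ⊤)
  haveI := hDa
  haveI : ∀ (i j : I) (a : i ⟶ j), IsAffineHom (D.map a) := fun i j a => inferInstance
  let ε : Y ⟶ c.pt := Y.isoSpec.hom ≫ e.inv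
  let f' := f ≫ ε
  haveI : LocallyOfFinitePresentation f' := inferInstance
  haveI : IsProper f' := inferInstance
  haveI : CompactSpace X := QuasiCompact.compactSpace_of_compactSpace f
  haveI : QuasiSeparatedSpace X := quasiSeparatedSpace_of_quasiSeparated f
  obtain ⟨i, Xi, fi, g, hfi, hXc, hXq, sq⟩ := LimLib.hasModel hc f'
  obtain ⟨k, φ, hk⟩ := LimLib.descends_isProper D c hc inferInstance inferInstance inferInstance
    i Xi fi hXc hXq inferInstance X g f' sq inferInstance
  let fk := pullback.snd fi (D.map φ)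
  obtain ⟨-, hc1, hc2, sqk⟩ := LimLib.HasModel.at_finer hfi hXc hXq sq φ
  haveI : IsProper fk := hk
  let i₁ : Over k := Over.mk (𝟙 k)
  haveI : CompactSpace ↑((LimLib.bcDiag D k fk).obj i₁) :=
    QuasiCompact.compactSpace_of_compactSpace (pullback.snd fk (D.map i₁.hom))
  haveI hps : IsProper (pullback.snd fk (D.map i₁.hom)) := MorphismProperty.pullback_snd _ _ hk
  haveI : QuasiSeparatedSpace ↑((LimLib.bcDiag D k fk).obj i₁) :=
    quasiSeparatedSpace_of_quasiSeparated (pullback.snd fk (D.map i₁.hom))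
  obtain ⟨l, -, G, hG, ⟨ι⟩⟩ := exists_invertible_model (LimLib.isLimitBcCone hc sqk) i₁ L hL
  let fl := pullback.snd fk (D.map l.hom)
  haveI : IsProper fl := MorphismProperty.pullback_snd _ _ hk
  refine ⟨D.obj l.left, pullback fk (D.map l.hom), fl, ε ≫ c.π.app l.left, (LimLib.bcCone sqk).π.app l, G,
    hDa _, hDn _, inferInstance, ?_, hG, ⟨ι⟩⟩
  haveI : IsIso ε := inferInstance
  refine (LimLib.isPullback_bcCone sqk l).of_iso (Iso.refl _) (Iso.refl _) (asIso ε).symm (Iso.refl _) ?_ ?_ ?_ ?_
  · exact (Category.comp_id _).trans (Category.id_comp _).symm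
  · exact ((Category.assoc f ε (inv ε)).trans ((congrArg (f ≫ ·) (IsIso.hom_inv_id ε)).trans
      (Category.comp_id f))).trans (Category.id_comp f).symm
  · exact (Category.comp_id _).trans (Category.id_comp _).symm
  · simp

variable (f : X ⟶ Y) [IsProper f] [LocallyOfFinitePresentation f] {L : X.Modules}

/-- Over an affine base the locus is open and compact, and if it is everything then `L` is relatively
ample. -/
theorem ampAt_of_isAffine [IsAffine Y] (hL : PicF.IsInvertible L) :
    IsOpen {y : Y | AmpAt f L y} ∧ IsCompact {y : Y | AmpAt f L y} ∧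
      ((∀ y, AmpAt f L y) → RelAmple.IsRelAmple f L) := by
  obtain ⟨Y₀, X₀, f₀, q, qX, G, hY₀, hN, hp, sq, hG, ⟨e⟩⟩ := exists_noetherian_model f hL
  have hiff : ∀ y : Y, AmpAt f L y ↔ AmpAt f₀ G (q y) := fun y =>
    ⟨fun h => (ampAt_preimage sq hG y).1 (ampAt_iso e.symm h),
      fun h => ampAt_iso e ((ampAt_preimage sq hG y).2 h)⟩
  have heq : {y : Y | AmpAt f L y} = q ⁻¹' {y : Y₀ | AmpAt f₀ G y} := Set.ext hiff
  let U₀ : Y₀.Opens := ⟨_, isOpen_ampAt_of_isNoetherian f₀ hG⟩
  refine ⟨heq ▸ U₀.2.preimage q.continuous,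
    heq ▸ q.isCompact_preimage (NoetherianSpace.isCompact (U₀ : Set Y₀)), fun h => ?_⟩
  have hrange : Set.range q ⊆ Set.range U₀.ι := by
    rw [Scheme.Opens.range_ι]
    rintro _ ⟨y, rfl⟩
    exact (hiff y).1 (h y)
  haveI : IsNoetherian U₀.toScheme :=
    { toIsLocallyNoetherian := inferInstance
      toCompactSpace := isCompact_iff_compactSpace.1 (NoetherianSpace.isCompact (U₀ : Set Y₀)) }
  let q' : Y ⟶ U₀.toScheme := IsOpenImmersion.lift U₀.ι q hrange
  have hq' : q' ≫ U₀.ι = q := IsOpenImmersion.lift_fac _ _ _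
  haveI : IsProper (f₀ ∣_ U₀) := MorphismProperty.of_isPullback (isPullback_morphismRestrict f₀ U₀).flip hp
  have hGU : PicF.IsInvertible (G.restrict (f₀ ⁻¹ᵁ U₀).ι) := PicCl.isInvertible_of_iso
    ((Scheme.Modules.restrictFunctorIsoPullback _).app G).symm (PicCl.isInvertible_pullback _ hG)
  have hU := isRelAmple_of_ampAt_of_isNoetherian (f₀ ∣_ U₀) hGU fun w => (ampAt_restrict hG U₀ w).2 w.2
  have hsq := (isPullback_morphismRestrict f₀ U₀).flip
  let qX' := hsq.lift qX (f ≫ q') (by rw [Category.assoc, hq', sq.w])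
  have hX' : IsPullback qX' f (f₀ ∣_ U₀) q' := by
    refine IsPullback.of_right ?_ (hsq.lift_snd _ _ _) hsq
    rw [hsq.lift_fst, hq']
    exact sq
  exact isRelAmple_iso ((Scheme.Modules.pullback qX').mapIso
      ((Scheme.Modules.restrictFunctorIsoPullback _).app G) ≪≫ (Scheme.Modules.pullbackComp _ _).app G ≪≫
      (Scheme.Modules.pullbackCongr (hsq.lift_fst _ _ _)).app G ≪≫ e)
    (isRelAmple_of_isPullback hX' hU)

/-- For a proper finitely presented morphism fibrewise ampleness is relative ampleness. -/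
theorem isRelAmple_iff_forall_ampAt (hL : PicF.IsInvertible L) :
    RelAmple.IsRelAmple f L ↔ ∀ y, AmpAt f L y := by
  refine ⟨fun h y => ampAt_of_isRelAmple h y, fun h => ?_⟩
  refine AmpleLib.isRelAmple_of_cover f (fun W : Y.affineOpens => W.1)
    (iSup_affineOpens_eq_top Y).ge hL fun W => (AmpleLib.isAmple_restrict_iff hL _).mp ?_
  haveI : IsAffine W.1.toScheme := W.2
  haveI : IsProper (f ∣_ W.1) := MorphismProperty.of_isPullback (isPullback_morphismRestrict f W.1).flip ‹_›
  haveI : LocallyOfFinitePresentation (f ∣_ W.1) :=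
    MorphismProperty.of_isPullback (isPullback_morphismRestrict f W.1).flip ‹_›
  have hLW : PicF.IsInvertible (L.restrict (f ⁻¹ᵁ W.1).ι) := PicCl.isInvertible_of_iso
    ((Scheme.Modules.restrictFunctorIsoPullback _).app L).symm (PicCl.isInvertible_pullback _ hL)
  exact (AmpleLib.isRelAmple_iff_isAmple (f ∣_ W.1)).1
    ((ampAt_of_isAffine (f ∣_ W.1) hLW).2.2 fun w => (ampAt_restrict hL W.1 w).2 (h _))

/-- The locus of ample fibres is locally constructible. -/
theorem isLocallyConstructible_ampAt (hL : PicF.IsInvertible L) :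
    IsLocallyConstructible {y : Y | AmpAt f L y} := by
  intro x
  obtain ⟨W, hW, hxW, -⟩ := exists_isAffineOpen_mem_and_subset (x := x) (U := ⊤) trivial
  haveI : IsAffine W.toScheme := hW
  haveI : IsProper (f ∣_ W) := MorphismProperty.of_isPullback (isPullback_morphismRestrict f W).flip ‹_›
  haveI : LocallyOfFinitePresentation (f ∣_ W) :=
    MorphismProperty.of_isPullback (isPullback_morphismRestrict f W).flip ‹_›
  have hLW : PicF.IsInvertible (L.restrict (f ⁻¹ᵁ W).ι) := PicCl.isInvertible_of_iso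
    ((Scheme.Modules.restrictFunctorIsoPullback _).app L).symm (PicCl.isInvertible_pullback _ hL)
  obtain ⟨h1, h2, -⟩ := ampAt_of_isAffine (f ∣_ W) hLW
  refine ⟨W, W.2.mem_nhds hxW, W.2, ?_⟩
  have e : (Subtype.val ⁻¹' {y : Y | AmpAt f L y} : Set (W : Set Y)) =
      {w : W.toScheme | AmpAt (f ∣_ W) (L.restrict (f ⁻¹ᵁ W).ι) w} :=
    Set.ext fun w => (ampAt_restrict hL W w).symm
  rw [e]
  exact (show IsRetrocompact _ from fun U hUc hUo => QuasiSeparatedSpace.inter_isCompact _ _ h1 h2 hUo hUc).isConstructible h1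

end Groth.Agent.AmpleDesc

end
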