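import Groth.Agent.S2491
import Groth.Agent.S2332
import Groth.Agent.Props.AmpleRel
import Groth.Agent.AmpleLib.Rel
import Groth.Agent.FpqcDesc.Props
import Groth.Agent.HTopLib.Cover

/-!
Relative ampleness descends along fpqc coverings of the base.
-/

universe u

open CategoryTheory CategoryTheory.Limits AlgebraicGeometry MorphismProperty

namespace Groth.Agent.AmpleDesc

set_option backward.isDefEq.respectTransparency.types false in
theorem isRelAmple_descend {X S S' : Scheme.{u}} (f : X ⟶ S) {L : X.Modules} (hL : PicF.IsInvertible L)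
    (g : S' ⟶ S) [QuasiCompact g] [Flat g] [Surjective g]
    (h : RelAmple.IsRelAmple (pullback.snd f g) ((Scheme.Modules.pullback (pullback.fst f g)).obj L)) :
    RelAmple.IsRelAmple f L := by
  have := FpqcDesc.descendsAlong_quasiCompact.{u}
  have hqc : QuasiCompact f := MorphismProperty.of_pullback_snd_of_descendsAlong (P := @QuasiCompact)
    (Q := FpqcDesc.FPQC.{u}) (f := f) (g := g) ⟨⟨inferInstance, inferInstance⟩, inferInstance⟩ h.1
  have := h.1
  refine ⟨hqc, fun V => ?_⟩
  have : IsAffine (V.1 : Scheme.{u}) := V.2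
  let G : (g ⁻¹ᵁ V.1 : Scheme.{u}) ⟶ V.1 := g ∣_ V.1
  have : CompactSpace (↑(g ⁻¹ᵁ V.1 : Scheme.{u}) : Type u) :=
    QuasiCompact.compactSpace_of_compactSpace G
  obtain ⟨n, W, hW, hcov⟩ := HTopLib.exists_affine_cover (g ⁻¹ᵁ V.1 : Scheme.{u})
  let E : ULift.{u} (Fin n) → Scheme.{u} := fun k => (W k.down : Scheme.{u})
  have : ∀ k, IsAffine (E k) := fun k => hW k.down
  have : IsAffine (∐ E) := inferInstance
  let r : ∐ E ⟶ (g ⁻¹ᵁ V.1 : Scheme.{u}) := Sigma.desc fun k => (W k.down).ι
  have hr : ∀ k, Sigma.ι E k ≫ r = (W k.down).ι := fun k => Sigma.ι_desc _ k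
  have : Surjective r := ⟨fun x => by
    obtain ⟨k, hk⟩ := hcov x
    refine ⟨Sigma.ι E ⟨k⟩ ⟨x, hk⟩, ?_⟩
    rw [← Scheme.Hom.comp_apply, hr]
    rfl⟩
  have : Flat r := IsZariskiLocalAtSource.sigmaDesc fun k => inferInstanceAs (Flat (W k.down).ι)
  let q := r ≫ G
  have : Flat G := MorphismProperty.of_isPullback (isPullback_morphismRestrict g V.1).flip ‹_›
  have : Surjective G := MorphismProperty.of_isPullback (isPullback_morphismRestrict g V.1).flip ‹_›
  let w : ∐ E ⟶ S' := r ≫ (g ⁻¹ᵁ V.1).ι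
  have hw : w ≫ g = q ≫ V.1.ι := by
    simp only [w, q, Category.assoc]
    rw [morphismRestrict_ι]
  have h2 := (AmpleLib.isRelAmple_iff_isAmple _).mp (Groth.Agent.S2332.result (pullback.snd f g) w _ h)
  let fV := f ∣_ V.1
  let L' := L.restrict (f ⁻¹ᵁ V.1).ι
  have hLi : PicF.IsInvertible L' := PicCl.isInvertible_of_iso
    ((Scheme.Modules.restrictFunctorIsoPullback (f ⁻¹ᵁ V.1).ι).app L).symm (PicCl.isInvertible_pullback _ hL)
  refine Groth.Agent.S2491.result fV q L' hLi ?_
  let P := pullback (pullback.snd f g) w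
  let P' := pullback fV q
  have hP : IsPullback (pullback.fst (pullback.snd f g) w ≫ pullback.fst f g)
      (pullback.snd (pullback.snd f g) w) f (w ≫ g) :=
    (IsPullback.of_hasPullback (pullback.snd f g) w).paste_horiz (IsPullback.of_hasPullback f g)
  have hP' : IsPullback (pullback.fst fV q ≫ (f ⁻¹ᵁ V.1).ι) (pullback.snd fV q) f (w ≫ g) := by
    rw [hw]
    exact (IsPullback.of_hasPullback fV q).paste_horiz (isPullback_morphismRestrict f V.1).flip
  let φ : P' ⟶ P := (hP'.isoIsPullback _ _ hP).hom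
  have hφ : φ ≫ pullback.fst (pullback.snd f g) w ≫ pullback.fst f g = pullback.fst fV q ≫ (f ⁻¹ᵁ V.1).ι :=
    hP'.isoIsPullback_hom_fst _ _ hP
  have h3 : CohB1.IsAmple ((Scheme.Modules.pullback φ).obj ((Scheme.Modules.pullback
      (pullback.fst (pullback.snd f g) w)).obj ((Scheme.Modules.pullback (pullback.fst f g)).obj L))) :=
    Groth.Agent.S9815.result φ φ.isEmbedding _ h2
  refine AmpleLib.isAmple_of_iso ?_ h3
  exact (Scheme.Modules.pullback φ).mapIso ((Scheme.Modules.pullbackComp _ _).app L) ≪≫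
    (Scheme.Modules.pullbackComp _ _).app L ≪≫ (Scheme.Modules.pullbackCongr hφ).app L ≪≫
    ((Scheme.Modules.pullbackComp _ _).app L).symm ≪≫
    (Scheme.Modules.pullback (pullback.fst fV q)).mapIso
      ((Scheme.Modules.restrictFunctorIsoPullback (f ⁻¹ᵁ V.1).ι).app L).symm

end Groth.Agent.AmpleDesc
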