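import Groth.Agent.AmpleLib.GlobGen
import Groth.Agent.AmpleLib.CompLemma
import Groth.Agent.AmpleLib.Rel
import Groth.Agent.AmpleLib.Functorial
import Groth.Agent.LimTop.ModEventual
import Groth.Agent.LimLib.Basic
import Groth.Agent.ProjTwist.Invertible
import Groth.Agent.Props.QFP

/-!
Ampleness descends along cofiltered limits with affine transition maps.
-/

set_option autoImplicit false
set_option linter.style.haveILetI false

universe u

open CategoryTheory CategoryTheory.Limits AlgebraicGeometry TopologicalSpace Opposite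

noncomputable section

namespace Groth.Agent.AmpleDesc

open Groth.Agent.QCoh Groth.Agent.Props.GenLocus Groth.Agent.Props.GenTensor Groth.Agent.Props.GenPull
  Groth.Agent.AmpleLib Groth.Agent.LimTop

theorem isFP_unit' (X : Scheme.{u}) : CohB1.IsFP (Coh.structureModule X) := by
  haveI := ProjTwist.isQuasicoherent_structureModule X
  refine (Props.QFP.isFP_iff _).2 fun U _ => ?_
  exact inferInstanceAs (Module.FinitePresentation Γ(X, U) Γ(X, U))

variable {I : Type u} [SmallCategory I] [IsCofiltered I] {D : I ⥤ Scheme.{u}} {c : Cone D}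
  (hc : IsLimit c) [∀ (i j : I) (f : i ⟶ j), IsAffineHom (D.map f)] {i₀ : I}

include hc in
/-- Sections of a pulled back quasi-coherent module on the limit come from a stage. -/
theorem exists_sec_descend [CompactSpace (D.obj i₀)] [QuasiSeparatedSpace (D.obj i₀)]
    (M : (D.obj i₀).Modules) [M.IsQuasicoherent]
    (σ : Γ((Scheme.Modules.pullback (c.π.app i₀)).obj M, c.π.app i₀ ⁻¹ᵁ (⊤ : (D.obj i₀).Opens))) :
    ∃ (j : I) (φ : j ⟶ i₀) (τ : Γ((Scheme.Modules.pullback (D.map φ)).obj M, (⊤ : (D.obj j).Opens))),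
      ((compIso (c.π.app j) (D.map φ) (c.w φ)).app M).hom.app (c.π.app j ⁻¹ᵁ ⊤) (pb (c.π.app j) τ) = σ := by
  let a : Coh.structureModule (D.obj i₀) ⟶
      (Scheme.Modules.pushforward (c.π.app i₀)).obj ((Scheme.Modules.pullback (c.π.app i₀)).obj M) := homOfSec σ
  let h := ((Scheme.Modules.pullbackPushforwardAdjunction (c.π.app i₀)).homEquiv _ _).symm a
  obtain ⟨j, φ, hj, hh⟩ := exists_hom_descend hc (Coh.structureModule (D.obj i₀)) M
    (fpOn_of_isFP _ (isFP_unit' _) ⊤) h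
  let one : Γ(Coh.structureModule (D.obj i₀), (⊤ : (D.obj i₀).Opens)) := one' ⊤
  have hσ : h.app (c.π.app i₀ ⁻¹ᵁ ⊤) (pb (c.π.app i₀) one) = σ := by
    have h0 : ((Scheme.Modules.pullbackPushforwardAdjunction (c.π.app i₀)).homEquiv _ _) h = a :=
      Equiv.apply_symm_apply _ _
    rw [Adjunction.homEquiv_unit] at h0
    have h1 := congrArg (fun q : Coh.structureModule (D.obj i₀) ⟶ _ => q.app ⊤ one) h0
    refine h1.trans ?_
    have h2 := sec_homOfSec (L := (Scheme.Modules.pushforward (c.π.app i₀)).obj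
      ((Scheme.Modules.pullback (c.π.app i₀)).obj M)) σ ⊤
    rw [res_self] at h2
    exact h2
  refine ⟨j, φ, hj.app ⊤ (pb (D.map φ) one), ?_⟩
  rw [← hh] at hσ
  refine Eq.trans ?_ hσ
  simp only [Scheme.Modules.Hom.comp_app, ConcreteCategory.comp_apply]
  refine congrArg _ ?_
  have hu : ∀ {A B : Scheme.{u}} (g : A ⟶ B) (N : B.Modules) {U : B.Opens} (m : Γ(N, U)),
      pb g m = unitSec g N (le_refl (g ⁻¹ᵁ U)) m := fun g N U m => (res_self _ _ _).symm
  have hinv : ((compIso (c.π.app j) (D.map φ) (c.w φ)).app _).inv.app (c.π.app i₀ ⁻¹ᵁ ⊤) (pb (c.π.app i₀) one) =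
      pb (c.π.app j) (pb (D.map φ) one) := by
    have h1 : ((compIso (c.π.app j) (D.map φ) (c.w φ)).app _).hom.app (c.π.app i₀ ⁻¹ᵁ ⊤)
        (pb (c.π.app j) (pb (D.map φ) one)) = pb (c.π.app i₀) one := by
      rw [hu, hu, hu]
      exact (congrArg (fun z => ((Scheme.Modules.pullbackCongr (c.w φ)).hom.app _).app _ z)
        (unitSec_comp (D.map φ) _ le_rfl (c.π.app j) le_rfl one)).trans
        (unitSec_congr (c.π.app j ≫ D.map φ) _ _ (c.w φ) one)
    rw [← h1, ← ConcreteCategory.comp_apply, ← Scheme.Modules.Hom.comp_app, Iso.hom_inv_id]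
    rfl
  refine Eq.trans ?_ (congrArg _ hinv.symm)
  simp only [hu]
  exact (unitSec_map (c.π.app j) _ _ hj _).symm

include hc in
/-- An affine generation locus on the limit comes from one on a stage. -/
theorem exists_locus_descend [∀ i, CompactSpace (D.obj i)] [∀ i, QuasiSeparatedSpace (D.obj i)]
    {L₀ : (D.obj i₀).Modules} (hL : PicF.IsInvertible L₀) {k : ℕ}
    (s : Coh.structureModule c.pt ⟶ CohB1.tensorPow ((Scheme.Modules.pullback (c.π.app i₀)).obj L₀) k)
    (hs : IsAffineOpen (CohB1.genLocus _ s)) :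
    ∃ (j : Over i₀) (t : Coh.structureModule (D.obj j.left) ⟶
        CohB1.tensorPow ((Scheme.Modules.pullback (D.map j.hom)).obj L₀) k),
      c.π.app j.left ⁻¹ᵁ CohB1.genLocus _ t = CohB1.genLocus _ s ∧ IsAffineOpen (CohB1.genLocus _ t) := by
  obtain ⟨e⟩ := exists_iso_pullback_tensorPow (c.π.app i₀) hL k
  have := ProjTwist.isQCoh_of_isInvertible (isInvertible_tensorPow hL k)
  have : (CohB1.tensorPow L₀ k).IsQuasicoherent := this
  obtain ⟨j, φ, τ, hτ⟩ := exists_sec_descend hc (CohB1.tensorPow L₀ k) (e.inv.app ⊤ (sec s ⊤))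
  have hMj := PicCl.isInvertible_pullback (D.map φ) (isInvertible_tensorPow hL k)
  have hLj := PicCl.isInvertible_pullback (D.map φ) hL
  have hloc : c.π.app j ⁻¹ᵁ locus τ = CohB1.genLocus _ s := by
    rw [← locus_pb (c.π.app j) hMj τ, ← locus_app_iso ((compIso (c.π.app j) (D.map φ) (c.w φ)).app _),
      genLocus_eq_locus s, ← locus_app_iso e.symm (sec s ⊤)]
    exact congrArg locus hτ
  haveI : IsAffineHom (locus τ).ι := by
    rw [← genLocus_homOfSec τ]
    exact isAffineHom_genLocus_ι hMj _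
  haveI : CompactSpace ↑(locus τ).toScheme := QuasiCompact.compactSpace_of_compactSpace (locus τ).ι
  have hc' := isLimitOpensCone D c hc j (locus τ)
  haveI : IsAffine (opensCone D c j (locus τ)).pt := by
    show IsAffine (c.π.app j ⁻¹ᵁ locus τ).toScheme
    rw [hloc]
    exact hs
  haveI : ∀ (p q : Over j) (f : p ⟶ q), IsAffineHom ((opensDiagram D j (locus τ)).map f) := fun p q f => inferInstance
  haveI : ∀ p, CompactSpace ((opensDiagram D j (locus τ)).obj p) := fun p => by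
    show CompactSpace ↑(D.map p.hom ⁻¹ᵁ locus τ).toScheme
    exact QuasiCompact.compactSpace_of_compactSpace (D.map p.hom ∣_ locus τ)
  haveI : ∀ p, QuasiSeparatedSpace ((opensDiagram D j (locus τ)).obj p) := fun p =>
    (D.map p.hom ⁻¹ᵁ locus τ).ι.isOpenEmbedding.quasiSeparatedSpace
  obtain ⟨p, hp⟩ := Scheme.exists_isAffine_of_isLimit _ _ hc'
  have hp' : IsAffineOpen (D.map p.hom ⁻¹ᵁ locus τ) := hp
  refine ⟨Over.mk (p.hom ≫ φ), ?_⟩
  obtain ⟨e'⟩ := exists_iso_pullback_tensorPow (D.map (p.hom ≫ φ)) hL k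
  let ι := (compIso (D.map p.hom) (D.map φ) (D.map_comp p.hom φ).symm).app (CohB1.tensorPow L₀ k) ≪≫ e'
  refine ⟨homOfSec (ι.hom.app ⊤ (pb (D.map p.hom) τ)), ?_⟩
  have hl : CohB1.genLocus _ (homOfSec (ι.hom.app ⊤ (pb (D.map p.hom) τ))) = D.map p.hom ⁻¹ᵁ locus τ := by
    rw [genLocus_homOfSec]
    exact (locus_app_iso ι (pb (D.map p.hom) τ)).trans (locus_pb _ hMj τ)
  refine ⟨?_, hl ▸ hp'⟩
  rw [← hloc]
  refine (congrArg (c.π.app p.left ⁻¹ᵁ ·) hl).trans ?_
  rw [← Scheme.Hom.comp_preimage, c.w]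

include hc in
/-- Ampleness on the limit descends to a stage. -/
theorem exists_isAmple_descend [∀ i, CompactSpace (D.obj i)] [∀ i, QuasiSeparatedSpace (D.obj i)]
    {L₀ : (D.obj i₀).Modules} (hL : PicF.IsInvertible L₀)
    (h : CohB1.IsAmple ((Scheme.Modules.pullback (c.π.app i₀)).obj L₀)) :
    ∃ j : Over i₀, CohB1.IsAmple ((Scheme.Modules.pullback (D.map j.hom)).obj L₀) := by
  classical
  obtain ⟨r, k, s, U, hk, hU, hUa, -, hcov⟩ := exists_common_cover h
  choose J t ht hta using fun i => exists_locus_descend hc hL (s i) (hU i ▸ hUa i)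
  obtain ⟨l, hl⟩ := IsCofiltered.inf_objs_exists (insert (Over.mk (𝟙 i₀)) (Finset.univ.image J))
  choose ψ hψ using fun i : Fin r => (⟨(hl (show J i ∈ _ by simp)).some, trivial⟩ : ∃ _ψ : l ⟶ J i, True)
  let V : Fin r → (D.obj l.left).Opens := fun i => D.map (ψ i).left ⁻¹ᵁ CohB1.genLocus _ (t i)
  have hV : c.π.app l.left ⁻¹ᵁ (⨆ i, V i) = ⊤ := by
    rw [Scheme.Hom.preimage_iSup, eq_top_iff]
    refine hcov.trans (iSup_mono fun i => ?_)
    simp only [V]
    rw [← Scheme.Hom.comp_preimage, c.w, ht i, hU i]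
  obtain ⟨m, χ, hm⟩ := exists_map_eq_top D c hc (⨆ i, V i) hV
  refine ⟨Over.mk (χ ≫ l.hom), PicCl.isInvertible_pullback _ hL, inferInstance, fun x => ?_⟩
  obtain ⟨n, rfl⟩ : ∃ n, k = n + 1 := ⟨k - 1, (Nat.succ_pred_eq_of_pos hk).symm⟩
  rw [Scheme.Hom.preimage_iSup] at hm
  obtain ⟨i, hi⟩ := Opens.mem_iSup.mp (hm.ge (trivial : x ∈ (⊤ : (D.obj m).Opens)))
  let g := D.map (χ ≫ (ψ i).left)
  obtain ⟨t', ht', -⟩ := exists_pull g (PicCl.isInvertible_pullback (D.map (J i).hom) hL) (t i)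
  let ι := (compIso g (D.map (J i).hom) (show g ≫ D.map (J i).hom = D.map (χ ≫ l.hom) by
    rw [← D.map_comp, Category.assoc, Over.w])).app L₀
  have hl' : CohB1.genLocus _ (t' ≫ (tensorPowIso ι (n + 1)).hom) = g ⁻¹ᵁ CohB1.genLocus _ (t i) := by
    rw [genLocus_comp_iso, ht']
  refine ⟨n, t' ≫ (tensorPowIso ι (n + 1)).hom, ?_, ?_⟩
  · refine (SetLike.ext_iff.mp hl' x).mpr ?_
    simp only [g, D.map_comp, Scheme.Hom.comp_preimage]
    exact hi
  · exact cast (congrArg IsAffineOpen hl'.symm) ((hta i).preimage g)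

end Groth.Agent.AmpleDesc

end
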